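import Groth.Agent.Lech46.Staircase
import Mathlib.Analysis.SpecificLimits.Basic
import Mathlib.Analysis.SpecificLimits.Normed
import Mathlib.Analysis.Asymptotics.SpecificAsymptotics

/-!
# Lech's inequality
-/

universe u

namespace Groth.Agent.Lech46

open Finset Filter Topology
open scoped Nat

variable {O : Type u} [CommRing O] {N : ℕ}

/-- The free coordinates of a capped exponent. -/
def free (D : ℕ) (c : Fin N → ℕ) : Finset (Fin N) := univ.filter fun i => c i = D

/-- The staircase `cells` of the exponents not in `M`. -/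
theorem sum_simplex_le (x : Fin N → O) (hM : (Ideal.span (Set.range x)).IsMaximal) {D : ℕ}
    (hD : ∀ a, cap D a ∈ lead x ⊥ ↔ a ∈ lead x ⊥) (C : Finset (Fin N → ℕ))
    (hC : ∀ c, c ∈ C → (∀ i, c i ≤ D) ∧ c ∉ lead x ⊥) (k : ℕ) :
    ∑ c ∈ C, (simplex (free D c) (k - deg c)).card ≤
      (Module.length O (O ⧸ Ideal.span (Set.range x) ^ k)).toNat := by
  obtain ⟨T, hT, hlen⟩ := exists_length_eq x hM (le_refl (Ideal.span (Set.range x) ^ k))
  rw [hlen, ENat.toNat_coe, ← Finset.card_sigma]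
  have hcap : ∀ c ∈ C, ∀ b : Fin N → ℕ, (∀ i ∉ free D c, b i = 0) → cap D (c + b) = c := fun c hc b hb => funext fun i => by
    have h1 := (hC c hc).1 i
    by_cases h : c i = D
    · simp [cap, h]
    · have h2 : b i = 0 := hb i (by simp [free, h])
      simp [cap, h2, h1]
  refine Finset.card_le_card_of_injOn (fun p => p.1 + p.2) (fun p hp => ?_) fun p hp q hq e => ?_
  · simp only [Finset.mem_coe, Finset.mem_sigma, mem_simplex] at hp
    rw [Finset.mem_coe, hT]
    intro hmem
    have h1 := mem_lead_bot_of_deg_lt hmem (by rw [deg_add]; omega)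
    rw [← hD, hcap _ hp.1 _ hp.2.2] at h1
    exact (hC _ hp.1).2 h1
  · simp only [Finset.mem_coe, Finset.mem_sigma, mem_simplex] at hp hq
    obtain ⟨c, b⟩ := p
    obtain ⟨c', b'⟩ := q
    simp only at hp hq e
    have h1 : c = c' := by
      rw [← hcap _ hp.1 _ hp.2.2, ← hcap _ hq.1 _ hq.2.2]
      exact congrArg (cap D) e
    subst h1
    exact Sigma.ext rfl (heq_of_eq (add_left_cancel e))

theorem length_pow_le (x : Fin N → O) (hM : (Ideal.span (Set.range x)).IsMaximal) {D : ℕ}
    (hD : ∀ a, cap D a ∈ lead x ⊥ ↔ a ∈ lead x ⊥) (C : Finset (Fin N → ℕ))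
    (hC : ∀ c : Fin N → ℕ, (∀ i, c i ≤ D) → c ∉ lead x ⊥ → c ∈ C) {I : Ideal O} {K : ℕ}
    (hI : Ideal.span (Set.range x) ^ K ≤ I) (n : ℕ) (hn : 0 < n) :
    (Module.length O (O ⧸ I ^ n)).toNat ≤
      (∑ c ∈ C, n ^ (free D c).card) * (Module.length O (O ⧸ I)).toNat := by
  classical
  obtain ⟨T, hT, hlen⟩ := exists_length_eq x hM hI
  obtain ⟨T', hT', hlen'⟩ := exists_length_eq x hM (J := I ^ n) (k := K * n) (by rw [pow_mul]; exact Ideal.pow_right_mono hI n)
  rw [hlen, hlen', ENat.toNat_coe, ENat.toNat_coe]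
  let R : (Fin N → ℕ) → Finset (Fin N → ℕ) := fun c => Fintype.piFinset fun i => if c i = D then range n else {0}
  have hR : ∀ c, (R c).card = n ^ (free D c).card := fun c => by
    simp only [R, Fintype.card_piFinset, apply_ite Finset.card, Finset.card_range, Finset.card_singleton]
    rw [Finset.prod_ite]
    simp [free]
  calc T'.card ≤ (C.sigma fun c => R c ×ˢ T).card := ?_
    _ = _ := by simp [Finset.card_sigma, Finset.card_product, hR, Finset.sum_mul]
  refine Finset.card_le_card_of_injOn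
    (fun a => ⟨cap D a, (fun i => (a i - cap D a i) % n, fun i => (a i - cap D a i) / n)⟩) (fun a ha => ?_)
    fun a _ b _ e => ?_
  · rw [Finset.mem_coe, hT'] at ha
    simp only [Finset.mem_coe, Finset.mem_sigma, Finset.mem_product, R, Fintype.mem_piFinset]
    refine ⟨hC _ (fun i => min_le_right _ _) fun h => ha (lead_mono x bot_le ((hD a).1 h)), fun i => ?_, (hT _).2 fun h => ha ?_⟩
    · split_ifs with h
      · exact Finset.mem_range.2 (Nat.mod_lt _ hn)
      · have h1 : cap D a i = a i := by simp only [cap] at h ⊢; omega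
        simp [h1]
    · refine lead_upper (fun i => ?_) (nsmul_mem_lead h n)
      simp only [Pi.smul_apply, smul_eq_mul]
      exact (Nat.mul_div_le _ n).trans (Nat.sub_le _ _)
  · simp only [Sigma.mk.injEq] at e
    obtain ⟨e1, e2⟩ := e
    rw [heq_eq_eq, Prod.mk.injEq] at e2
    funext i
    have h1 : cap D a i = cap D b i := congrFun e1 i
    have h2 := congrFun e2.1 i
    have h3 := congrFun e2.2 i
    have h4 := Nat.mod_add_div (a i - cap D a i) n
    have h5 := Nat.mod_add_div (b i - cap D b i) n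
    have h6 := cap_le D a i
    have h7 := cap_le D b i
    rw [h2, h3] at h4
    rw [h5] at h4
    clear h2 h3 h5
    rw [h1] at h4 h6
    exact (tsub_left_inj h6 h7).1 h4.symm

/-- Lech's inequality. -/
theorem lech [IsNoetherianRing O] [IsLocalRing O] (r : ℕ) (I : Ideal O)
    (hIN : ∃ K : ℕ, IsLocalRing.maximalIdeal O ^ K ≤ I) (eI eO : ℝ)
    (heI : Tendsto (fun n : ℕ => (r ! : ℝ) * ((Module.length O (O ⧸ I ^ n)).toNat : ℝ) / (n : ℝ) ^ r) atTop (𝓝 eI))
    (heO : Tendsto (fun n : ℕ => (r ! : ℝ) *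
      ((Module.length O (O ⧸ IsLocalRing.maximalIdeal O ^ n)).toNat : ℝ) / (n : ℝ) ^ r) atTop (𝓝 eO)) :
    eI ≤ (r ! : ℝ) * eO * ((Module.length O (O ⧸ I)).toNat : ℝ) := by
  classical
  obtain ⟨N, x, hx⟩ := Submodule.fg_iff_exists_fin_generating_family.1 (IsNoetherian.noetherian (IsLocalRing.maximalIdeal O))
  change Ideal.span (Set.range x) = _ at hx
  have hM : (Ideal.span (Set.range x)).IsMaximal := hx ▸ IsLocalRing.maximalIdeal.isMaximal O
  obtain ⟨K, hK⟩ := hIN
  obtain ⟨D, hD⟩ := exists_cap (M := lead x ⊥) fun a b => lead_upper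
  let C : Finset (Fin N → ℕ) := (Fintype.piFinset fun _ => range (D + 1)).filter (· ∉ lead x ⊥)
  have hC : ∀ c, c ∈ C ↔ (∀ i, c i ≤ D) ∧ c ∉ lead x ⊥ := fun c => by
    simp [C, Fintype.mem_piFinset, Nat.lt_succ_iff]
  rw [← hx] at heO
  have hlow : ∀ C' ⊆ C, ∀ k, ∑ c ∈ C', (simplex (free D c) (k - deg c)).card ≤
      (Module.length O (O ⧸ Ideal.span (Set.range x) ^ k)).toNat := fun C' hC' k =>
    sum_simplex_le x hM hD C' (fun c hc => (hC c).1 (hC' hc)) k
  set A := C.sup deg with hA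
  -- no cell has dimension larger than `r`
  have hdim : ∀ c ∈ C, (free D c).card ≤ r := by
    intro c hc
    by_contra hlt
    push Not at hlt
    set s := (free D c).card with hs
    obtain ⟨k0, hk0⟩ := Filter.eventually_atTop.1 (heO.eventually (gt_mem_nhds (lt_add_one eO)))
    obtain ⟨j0, hj0⟩ := exists_nat_gt ((2 : ℝ) ^ r * (s ! : ℝ) * |eO + 1|)
    set j := j0 + k0 + A + 1 with hj
    have hcA : deg c ≤ A := Finset.le_sup hc
    have h1 := hlow {c} (by simpa using hc) (deg c + j)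
    rw [Finset.sum_singleton, Nat.add_sub_cancel_left] at h1
    have h2 := (pow_card_le_simplex (free D c) j).resolve_right (by omega)
    rw [← hs] at h2
    have h3 : j ^ (r + 1) ≤ s ! * (Module.length O (O ⧸ Ideal.span (Set.range x) ^ (deg c + j))).toNat :=
      ((Nat.pow_le_pow_right (by omega) hlt).trans h2).trans (Nat.mul_le_mul_left _ h1)
    have h4 := hk0 (deg c + j) (by omega)
    rw [div_lt_iff₀ (by rw [Nat.cast_add]; positivity)] at h4
    set L := (Module.length O (O ⧸ Ideal.span (Set.range x) ^ (deg c + j))).toNat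
    have h5 : (j : ℝ) ^ (r + 1) ≤ (s ! : ℝ) * L := by exact_mod_cast h3
    have h6 : ((deg c + j : ℕ) : ℝ) ^ r ≤ 2 ^ r * (j : ℝ) ^ r := by
      rw [← mul_pow]
      gcongr
      exact_mod_cast (show deg c + j ≤ 2 * j by omega)
    have h7 : (L : ℝ) ≤ (r ! : ℝ) * L := by
      exact le_mul_of_one_le_left (Nat.cast_nonneg _) (by exact_mod_cast Nat.factorial_pos r)
    have h8 : (L : ℝ) ≤ |eO + 1| * (2 ^ r * (j : ℝ) ^ r) :=
      (h7.trans h4.le).trans (mul_le_mul (le_abs_self _) h6 (by positivity) (abs_nonneg _))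
    have h9 : (j : ℝ) * (j : ℝ) ^ r ≤ (2 ^ r * (s ! : ℝ) * |eO + 1|) * (j : ℝ) ^ r := by
      rw [← pow_succ']
      exact h5.trans ((mul_le_mul_of_nonneg_left h8 (Nat.cast_nonneg _)).trans_eq (by ring))
    have h10 := le_of_mul_le_mul_right h9 (pow_pos (by rw [hj]; positivity) r)
    have h11 : (j0 : ℝ) ≤ j := by exact_mod_cast (show j0 ≤ j by omega)
    linarith
  set C' := C.filter fun c => (free D c).card = r with hC'
  -- the lower bound for `eO`
  have hge : (C'.card : ℝ) ≤ eO := by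
    have h0 : Tendsto (fun k : ℕ => (C'.card : ℝ) * (1 - (A : ℝ) / k) ^ r) atTop (𝓝 (C'.card * (1 - 0) ^ r)) :=
      ((tendsto_const_nhds.sub (tendsto_const_div_atTop_nhds_zero_nat (A : ℝ))).pow r).const_mul _
    rw [sub_zero, one_pow, mul_one] at h0
    refine le_of_tendsto_of_tendsto h0 heO (Filter.eventually_atTop.2 ⟨A + 1, fun k hk => ?_⟩)
    have h1 : C'.card * (k - A) ^ r ≤ r ! * (Module.length O (O ⧸ Ideal.span (Set.range x) ^ k)).toNat := by
      refine le_trans ?_ (Nat.mul_le_mul_left _ (hlow C' (Finset.filter_subset _ _) k))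
      rw [Finset.mul_sum, ← smul_eq_mul, ← Finset.sum_const]
      refine Finset.sum_le_sum fun c hc => ?_
      obtain ⟨hc, hcr⟩ := Finset.mem_filter.1 hc
      have hcA : deg c ≤ A := Finset.le_sup hc
      have h2 := (pow_card_le_simplex (free D c) (k - deg c)).resolve_right (by omega)
      rw [hcr] at h2
      exact (Nat.pow_le_pow_left (by omega) r).trans h2
    have hk0 : (0 : ℝ) < k := by exact_mod_cast (show 0 < k by omega)
    rw [le_div_iff₀ (pow_pos hk0 r), mul_assoc, ← mul_pow, sub_mul, one_mul, div_mul_cancel₀ _ hk0.ne',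
      ← Nat.cast_sub (by omega)]
    exact_mod_cast h1
  -- the upper bound for `eI`
  set ℓ := (Module.length O (O ⧸ I)).toNat
  have h0 : Tendsto (fun n : ℕ => (r ! : ℝ) * ℓ * ∑ c ∈ C, (n : ℝ) ^ (free D c).card / (n : ℝ) ^ r) atTop
      (𝓝 ((r ! : ℝ) * ℓ * ∑ c ∈ C, if (free D c).card = r then (1 : ℝ) else 0)) := by
    refine (tendsto_finset_sum _ fun c hc => ?_).const_mul _
    by_cases h : (free D c).card = r
    · rw [if_pos h]
      refine (tendsto_const_nhds (x := (1 : ℝ))).congr' (Filter.eventually_atTop.2 ⟨1, fun n hn => ?_⟩)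
      have : (0 : ℝ) < n := by exact_mod_cast hn
      show (1 : ℝ) = _
      simp only [h]
      rw [div_self (pow_ne_zero _ this.ne')]
    · rw [if_neg h]
      exact (tendsto_pow_div_pow_atTop_zero (lt_of_le_of_ne (hdim c hc) h)).comp tendsto_natCast_atTop_atTop
  have hle : eI ≤ (r ! : ℝ) * ℓ * C'.card := by
    rw [← Finset.sum_boole]  at *
    refine le_of_tendsto_of_tendsto heI h0 (Filter.eventually_atTop.2 ⟨1, fun n hn => ?_⟩)
    have h1 := length_pow_le x hM hD C (fun c h1 h2 => (hC c).2 ⟨h1, h2⟩) (hx ▸ hK) n hn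
    dsimp only
    rw [← Finset.sum_div, ← mul_div_assoc, mul_assoc]
    refine div_le_div_of_nonneg_right (mul_le_mul_of_nonneg_left ?_ (Nat.cast_nonneg _)) (by positivity)
    calc ((Module.length O (O ⧸ I ^ n)).toNat : ℝ) ≤ (((∑ c ∈ C, n ^ (free D c).card) * ℓ : ℕ) : ℝ) := by exact_mod_cast h1
      _ = _ := by push_cast; ring
  exact hle.trans (by rw [mul_right_comm]; gcongr)

end Groth.Agent.Lech46
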