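import Mathlib.Order.PiLex
import Mathlib.Order.WellQuasiOrder
import Mathlib.Data.Fintype.BigOperators
import Mathlib.RingTheory.Ideal.Operations
import Mathlib.RingTheory.Length
import Mathlib.RingTheory.LocalRing.MaximalIdeal.Basic
import Mathlib.Tactic

/-!
# Leading exponents of ideals with respect to a system of generators

For `x : Fin N → O` and an ideal `J`, `lead x J` is the set of exponents `a` with `x ^ a` in `J` plus the span of the
monomials of larger exponent (degree, then lexicographic). Its complement computes the length of `O ⧸ J`.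
-/

universe u

namespace Groth.Agent.Lech46

open Finset
open scoped Nat

variable {O : Type u} [CommRing O] {N : ℕ}

/-- The monomial with exponent `a`. -/
def mon (x : Fin N → O) (a : Fin N → ℕ) : O := ∏ i, x i ^ a i

/-- The total degree of an exponent. -/
def deg (a : Fin N → ℕ) : ℕ := ∑ i, a i

/-- The ordering key: degree first, then lexicographic. -/
def key (a : Fin N → ℕ) : ℕ ×ₗ Lex (Fin N → ℕ) := toLex (deg a, toLex a)

theorem key_injective : Function.Injective (key (N := N)) := fun a b h =>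
  toLex.injective (Prod.ext_iff.1 (toLex.injective h)).2

theorem key_lt_iff {a b : Fin N → ℕ} :
    key a < key b ↔ deg a < deg b ∨ deg a = deg b ∧ ∃ i, (∀ j, j < i → a j = b j) ∧ a i < b i :=
  Prod.Lex.toLex_lt_toLex

theorem deg_add (a b : Fin N → ℕ) : deg (a + b) = deg a + deg b := Finset.sum_add_distrib

theorem key_add_lt {a b : Fin N → ℕ} (h : key a < key b) (c : Fin N → ℕ) : key (a + c) < key (b + c) := by
  rw [key_lt_iff] at h ⊢
  rw [deg_add, deg_add]
  rcases h with h | ⟨h, i, h1, h2⟩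
  · exact Or.inl (by omega)
  · exact Or.inr ⟨by omega, i, fun j hj => by simp [h1 j hj], by simp only [Pi.add_apply]; omega⟩

theorem mon_add (x : Fin N → O) (a b : Fin N → ℕ) : mon x (a + b) = mon x a * mon x b := by
  simp [mon, pow_add, Finset.prod_mul_distrib]

theorem mon_zero (x : Fin N → O) : mon x 0 = 1 := by simp [mon]

theorem mon_single (x : Fin N → O) (i : Fin N) : mon x (Pi.single i 1) = x i := by
  rw [mon, Finset.prod_eq_single i (fun j _ hj => by simp [hj]) (by simp)]
  simp

theorem deg_single (i : Fin N) (k : ℕ) : deg (Pi.single i k : Fin N → ℕ) = k := Fintype.sum_pi_single' i k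

theorem le_deg (a : Fin N → ℕ) (i : Fin N) : a i ≤ deg a := Finset.single_le_sum (fun _ _ => Nat.zero_le _) (Finset.mem_univ i)

theorem mon_mem_pow (x : Fin N → O) (a : Fin N → ℕ) : mon x a ∈ Ideal.span (Set.range x) ^ deg a := by
  rw [deg, ← Finset.prod_pow_eq_pow_sum]
  exact Ideal.prod_mem_prod fun i _ => Ideal.pow_mem_pow (Ideal.subset_span (Set.mem_range_self i)) _

theorem pow_le_span (x : Fin N → O) : ∀ k : ℕ, Ideal.span (Set.range x) ^ k ≤ Ideal.span (mon x '' {a | deg a = k}) := by
  intro k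
  induction k with
  | zero =>
    rw [pow_zero, Ideal.one_eq_top]
    have h1 : (1 : O) ∈ Ideal.span (mon x '' {a | deg a = 0}) :=
      Ideal.subset_span ⟨0, by simp [deg], mon_zero x⟩
    exact ((Ideal.eq_top_iff_one _).2 h1).ge
  | succ k ih =>
    rw [pow_succ]
    refine (Ideal.mul_mono ih le_rfl).trans ?_
    rw [Ideal.span_mul_span', Ideal.span_le]
    rintro _ ⟨_, ⟨a, ha, rfl⟩, _, ⟨i, rfl⟩, rfl⟩
    exact Ideal.subset_span ⟨a + Pi.single i 1, by simp only [Set.mem_setOf_eq] at ha ⊢; rw [deg_add, deg_single, ha],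
      by rw [mon_add, mon_single]⟩

/-- The span of the monomials of larger exponent. -/
def above (x : Fin N → O) (a : Fin N → ℕ) : Ideal O := Ideal.span (mon x '' {b | key a < key b})

theorem mon_mem_above (x : Fin N → O) {a b : Fin N → ℕ} (h : key a < key b) : mon x b ∈ above x a :=
  Ideal.subset_span ⟨b, h, rfl⟩

theorem pow_le_above (x : Fin N → O) {a : Fin N → ℕ} {k : ℕ} (h : deg a < k) :
    Ideal.span (Set.range x) ^ k ≤ above x a :=
  (pow_le_span x k).trans (Ideal.span_mono (Set.image_mono fun b hb => key_lt_iff.2 (Or.inl (h.trans_eq hb.symm))))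

theorem above_mul_mon {x : Fin N → O} {a b : Fin N → ℕ} {f : O} (hf : f ∈ above x a) :
    f * mon x b ∈ above x (a + b) := by
  have h : above x a * Ideal.span {mon x b} ≤ above x (a + b) := by
    rw [above, Ideal.span_mul_span', Ideal.span_le]
    rintro _ ⟨_, ⟨c, hc, rfl⟩, _, rfl, rfl⟩
    exact Ideal.subset_span ⟨c + b, key_add_lt hc b, mon_add x c b⟩
  exact h (Ideal.mul_mem_mul hf (Ideal.mem_span_singleton_self _))

theorem above_mul_above {x : Fin N → O} {a b : Fin N → ℕ} {f g : O} (hf : f ∈ above x a) (hg : g ∈ above x b) :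
    f * g ∈ above x (a + b) := by
  have h : above x a * above x b ≤ above x (a + b) := by
    rw [above, above, Ideal.span_mul_span', Ideal.span_le]
    rintro _ ⟨_, ⟨c, hc, rfl⟩, _, ⟨e, he, rfl⟩, rfl⟩
    refine Ideal.subset_span ⟨c + e, (key_add_lt hc b).trans ?_, mon_add x c e⟩
    rw [add_comm c b, add_comm c e]
    exact key_add_lt he c
  exact h (Ideal.mul_mem_mul hf hg)

/-- Leading exponents. -/
def lead (x : Fin N → O) (J : Ideal O) : Set (Fin N → ℕ) := {a | mon x a ∈ J ⊔ above x a}

theorem lead_mono (x : Fin N → O) {J J' : Ideal O} (h : J ≤ J') : lead x J ⊆ lead x J' :=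
  fun _ ha => (sup_le_sup_right h _) ha

theorem lead_add_mem {x : Fin N → O} {I J : Ideal O} {a b : Fin N → ℕ} (ha : a ∈ lead x I) (hb : b ∈ lead x J) :
    a + b ∈ lead x (I * J) := by
  obtain ⟨i, hi, f, hf, hif⟩ := Submodule.mem_sup.1 ha
  obtain ⟨j, hj, g, hg, hjg⟩ := Submodule.mem_sup.1 hb
  refine Submodule.mem_sup.2 ⟨i * j, Ideal.mul_mem_mul hi hj, mon x a * g + f * mon x b - f * g, ?_, ?_⟩
  · refine sub_mem (add_mem ?_ (above_mul_mon hf)) (above_mul_above hf hg)
    rw [mul_comm, add_comm]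
    exact above_mul_mon hg
  · rw [mon_add, ← hif, ← hjg]
    ring

theorem lead_upper {x : Fin N → O} {J : Ideal O} {a b : Fin N → ℕ} (h : a ≤ b) (ha : a ∈ lead x J) : b ∈ lead x J := by
  obtain ⟨c, rfl⟩ := exists_add_of_le h
  have hc : c ∈ lead x ⊤ := by
    show mon x c ∈ ⊤ ⊔ above x c
    rw [top_sup_eq]
    trivial
  simpa only [Ideal.mul_top] using lead_add_mem ha hc

theorem nsmul_mem_lead {x : Fin N → O} {I : Ideal O} {a : Fin N → ℕ} (ha : a ∈ lead x I) :
    ∀ n : ℕ, n • a ∈ lead x (I ^ n) := by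
  intro n
  induction n with
  | zero =>
    show mon x (0 • a) ∈ I ^ 0 ⊔ above x (0 • a)
    rw [pow_zero, Ideal.one_eq_top, top_sup_eq]
    trivial
  | succ n ih => rw [succ_nsmul, pow_succ]; exact lead_add_mem ih ha

theorem mem_lead_bot_of_deg_lt {x : Fin N → O} {a : Fin N → ℕ} {k : ℕ}
    (ha : a ∈ lead x (Ideal.span (Set.range x) ^ k)) (h : deg a < k) : a ∈ lead x ⊥ :=
  Submodule.mem_sup_right ((sup_le (pow_le_above x h) le_rfl) ha)

theorem mem_lead_of_le_deg {x : Fin N → O} {a : Fin N → ℕ} {k : ℕ} {J : Ideal O}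
    (hJ : Ideal.span (Set.range x) ^ k ≤ J) (h : k ≤ deg a) : a ∈ lead x J :=
  Submodule.mem_sup_left (hJ (Ideal.pow_le_pow_right h (mon_mem_pow x a)))

theorem length_quotient_succ {Q : Ideal O} {y : O} (M : Ideal O) [hM : M.IsMaximal] (hyM : ∀ a ∈ M, a * y ∈ Q)
    (hy : y ∉ Q) : Module.length O (O ⧸ Q) = Module.length O (O ⧸ Q ⊔ Ideal.span {y}) + 1 := by
  let g : O →ₗ[O] O ⧸ Q := LinearMap.toSpanSingleton O (O ⧸ Q) (Submodule.Quotient.mk y)
  have hg : ∀ a, g a = Submodule.Quotient.mk (a * y) := fun a => (Submodule.Quotient.mk_smul Q a y).symm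
  have hker : LinearMap.ker g = M := by
    refine (hM.eq_of_le (fun h => hy ?_) fun a ha => ?_).symm
    · have h1 : (1 : O) ∈ LinearMap.ker g := by rw [h]; trivial
      rw [LinearMap.mem_ker, hg, one_mul, Submodule.Quotient.mk_eq_zero] at h1
      exact h1
    · rw [LinearMap.mem_ker, hg, Submodule.Quotient.mk_eq_zero]
      exact hyM a ha
  let f := (LinearMap.ker g).liftQ g le_rfl
  haveI : IsSimpleModule O (O ⧸ LinearMap.ker g) := by
    rw [isSimpleModule_iff_isCoatom, hker]
    exact Ideal.isMaximal_def.1 hM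
  rw [Module.length_eq_add_of_exact f (Submodule.factor (le_sup_left : Q ≤ Q ⊔ Ideal.span {y}))
    (by rw [← LinearMap.ker_eq_bot]; exact Submodule.ker_liftQ_eq_bot' _ _ rfl)
    (Submodule.factor_surjective le_sup_left), Module.length_eq_one, add_comm]
  intro v
  obtain ⟨b, rfl⟩ := Submodule.Quotient.mk_surjective Q v
  rw [← Submodule.mkQ_apply, Submodule.factor_mk, Submodule.mkQ_apply, Submodule.mkQ_apply, Submodule.Quotient.mk_eq_zero]
  constructor
  · intro hb
    obtain ⟨q, hq, c, hc, rfl⟩ := Submodule.mem_sup.1 hb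
    obtain ⟨a, rfl⟩ := Ideal.mem_span_singleton'.1 hc
    refine ⟨Submodule.Quotient.mk a, ?_⟩
    rw [Submodule.liftQ_apply, hg, Submodule.Quotient.mk_add, (Submodule.Quotient.mk_eq_zero Q).2 hq, zero_add]
  · rintro ⟨w, hw⟩
    obtain ⟨a, rfl⟩ := Submodule.Quotient.mk_surjective _ w
    rw [Submodule.liftQ_apply, hg, Submodule.Quotient.eq] at hw
    have h2 : b = a * y - (a * y - b) := by ring
    rw [h2]
    exact sub_mem (Submodule.mem_sup_right (Ideal.mem_span_singleton'.2 ⟨a, rfl⟩)) (Submodule.mem_sup_left hw)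

/-- Exponents of degree below `k`. -/
def ball (N k : ℕ) : Finset (Fin N → ℕ) := (Fintype.piFinset fun _ => range k).filter fun a => deg a < k

theorem mem_ball {k : ℕ} {a : Fin N → ℕ} : a ∈ ball N k ↔ deg a < k := by
  simp only [ball, Finset.mem_filter, Fintype.mem_piFinset, Finset.mem_range, and_iff_right_iff_imp]
  exact fun h i => (le_deg a i).trans_lt h

open Classical in
theorem length_eq_add_card (x : Fin N → O) (hM : (Ideal.span (Set.range x)).IsMaximal) {J : Ideal O} {k : ℕ}
    (hJ : Ideal.span (Set.range x) ^ k ≤ J) (s : Finset (Fin N → ℕ)) (hs : s ⊆ ball N k)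
    (hup : ∀ b ∈ s, ∀ c ∈ ball N k, key b < key c → c ∈ s) :
    Module.length O (O ⧸ J) = Module.length O (O ⧸ J ⊔ Ideal.span (mon x '' (s : Set (Fin N → ℕ)))) +
      ((s.filter (· ∉ lead x J)).card : ℕ∞) := by
  induction s using Finset.strongInduction with
  | H s ih =>
    rcases s.eq_empty_or_nonempty with rfl | hne
    · rw [show J ⊔ Ideal.span (mon x '' ((∅ : Finset (Fin N → ℕ)) : Set (Fin N → ℕ))) = J by simp]
      simp
    obtain ⟨a, ha, hmin⟩ := s.exists_min_image key hne
    have h' := ih (s.erase a) (Finset.erase_ssubset ha) ((Finset.erase_subset _ _).trans hs) fun b hb c hc hbc =>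
      Finset.mem_erase.2 ⟨fun e => absurd (hmin b (Finset.mem_of_mem_erase hb)) (not_le.2 (e ▸ hbc)),
        hup b (Finset.mem_of_mem_erase hb) c hc hbc⟩
    have hQ : J ⊔ Ideal.span (mon x '' ((s.erase a : Finset (Fin N → ℕ)) : Set (Fin N → ℕ))) = J ⊔ above x a := by
      apply le_antisymm
      · refine sup_le le_sup_left ((Ideal.span_mono (Set.image_mono fun b hb => ?_)).trans le_sup_right)
        rw [Finset.mem_coe, Finset.mem_erase] at hb
        exact lt_of_le_of_ne (hmin b hb.2) fun e => hb.1 (key_injective e).symm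
      · refine sup_le le_sup_left ?_
        rw [above, Ideal.span_le]
        rintro _ ⟨b, hb, rfl⟩
        rcases lt_or_ge (deg b) k with hbk | hbk
        · refine Submodule.mem_sup_right (Ideal.subset_span ⟨b, ?_, rfl⟩)
          exact Finset.mem_erase.2 ⟨fun e => (ne_of_gt hb) (congrArg key e), hup a ha b (mem_ball.2 hbk) hb⟩
        · exact Submodule.mem_sup_left (hJ (Ideal.pow_le_pow_right hbk (mon_mem_pow x b)))
    have hsplit : J ⊔ Ideal.span (mon x '' (s : Set (Fin N → ℕ))) = (J ⊔ above x a) ⊔ Ideal.span {mon x a} := by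
      conv_lhs => rw [← Finset.insert_erase ha]
      rw [Finset.coe_insert, Set.image_insert_eq, Ideal.span_insert, sup_comm (Ideal.span {mon x a}), ← sup_assoc, hQ]
    rw [h', hQ, hsplit]
    by_cases hmem : a ∈ lead x J
    · have e : (J ⊔ above x a) ⊔ Ideal.span {mon x a} = J ⊔ above x a :=
        sup_eq_left.2 ((Ideal.span_singleton_le_iff_mem _).2 hmem)
      rw [e, show (s.filter (· ∉ lead x J)) = (s.erase a).filter (· ∉ lead x J) by
        rw [Finset.filter_erase, Finset.erase_eq_of_notMem (by simp [hmem])]]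
    · haveI := hM
      rw [length_quotient_succ (Ideal.span (Set.range x)) (fun c hc => ?_) hmem]
      · rw [Finset.filter_erase, add_assoc, ← Nat.cast_one, ← Nat.cast_add, add_comm 1,
          Finset.card_erase_add_one (Finset.mem_filter.2 ⟨ha, hmem⟩)]
      · refine Submodule.mem_sup_right ?_
        have h2 : Ideal.span (Set.range x) * Ideal.span {mon x a} ≤ above x a := by
          rw [Ideal.span_mul_span', Ideal.span_le]
          rintro _ ⟨_, ⟨i, rfl⟩, _, rfl, rfl⟩
          refine Ideal.subset_span ⟨Pi.single i 1 + a, key_lt_iff.2 (Or.inl ?_), by rw [mon_add, mon_single]⟩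
          rw [deg_add, deg_single]
          omega
        exact h2 (Ideal.mul_mem_mul hc (Ideal.mem_span_singleton_self _))

/-- The length of `O ⧸ J` counts the exponents which are not leading. -/
theorem exists_length_eq (x : Fin N → O) (hM : (Ideal.span (Set.range x)).IsMaximal) {J : Ideal O} {k : ℕ}
    (hJ : Ideal.span (Set.range x) ^ k ≤ J) :
    ∃ T : Finset (Fin N → ℕ), (∀ a, a ∈ T ↔ a ∉ lead x J) ∧ Module.length O (O ⧸ J) = (T.card : ℕ∞) := by
  classical
  refine ⟨(ball N k).filter (· ∉ lead x J), fun a => ?_, ?_⟩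
  · rw [Finset.mem_filter, mem_ball, and_iff_right_iff_imp]
    exact fun ha => not_le.1 fun h => ha (mem_lead_of_le_deg hJ h)
  · rw [length_eq_add_card x hM hJ _ subset_rfl fun _ _ c hc _ => hc]
    have htop : J ⊔ Ideal.span (mon x '' (ball N k : Set (Fin N → ℕ))) = ⊤ := by
      rcases Nat.eq_zero_or_pos k with rfl | hk
      · rw [pow_zero, Ideal.one_eq_top, top_le_iff] at hJ
        rw [hJ, top_sup_eq]
      · refine (Ideal.eq_top_iff_one _).2 (Submodule.mem_sup_right (Ideal.subset_span ⟨0, ?_, mon_zero x⟩))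
        rw [Finset.mem_coe, mem_ball]
        simpa [deg] using hk
    haveI : Subsingleton (O ⧸ J ⊔ Ideal.span (mon x '' (ball N k : Set (Fin N → ℕ)))) :=
      Ideal.Quotient.subsingleton_iff.2 htop
    rw [Module.length_eq_zero (R := O), zero_add]

/-- Cap every coordinate at `D`. -/
def cap (D : ℕ) (a : Fin N → ℕ) : Fin N → ℕ := fun i => min (a i) D

theorem cap_le (D : ℕ) (a : Fin N → ℕ) : cap D a ≤ a := fun _ => min_le_left _ _

/-- An upper set of exponents only depends on capped exponents. -/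
theorem exists_cap {M : Set (Fin N → ℕ)} (hM : ∀ a b, a ≤ b → a ∈ M → b ∈ M) :
    ∃ D : ℕ, ∀ a, cap D a ∈ M ↔ a ∈ M := by
  have hfin : {m | Minimal (· ∈ M) m}.Finite :=
    WellQuasiOrderedLE.finite_of_isAntichain (setOf_minimal_antichain _)
  refine ⟨hfin.toFinset.sup deg, fun a => ⟨fun h => hM _ _ (cap_le _ a) h, fun h => ?_⟩⟩
  obtain ⟨m, hma, hm⟩ := exists_minimal_le_of_wellFoundedLT (· ∈ M) a h
  refine hM m _ (fun i => le_min (hma i) ?_) hm.prop
  exact (le_deg m i).trans (Finset.le_sup (f := deg) (hfin.mem_toFinset.2 hm))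

theorem succ_pow_le (j : ℕ) : ∀ s : ℕ, (j + 1) ^ (s + 1) ≤ j ^ (s + 1) + (s + 1) * (j + 1) ^ s := by
  intro s
  induction s with
  | zero => simp
  | succ s ih =>
    calc (j + 1) ^ (s + 1 + 1) = (j + 1) ^ (s + 1) * (j + 1) := pow_succ _ _
      _ ≤ (j ^ (s + 1) + (s + 1) * (j + 1) ^ s) * (j + 1) := Nat.mul_le_mul_right _ ih
      _ = j ^ (s + 1 + 1) + j ^ (s + 1) + (s + 1) * (j + 1) ^ (s + 1) := by ring
      _ ≤ j ^ (s + 1 + 1) + (j + 1) ^ (s + 1) + (s + 1) * (j + 1) ^ (s + 1) := by
          gcongr; omega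
      _ = j ^ (s + 1 + 1) + (s + 1 + 1) * (j + 1) ^ (s + 1) := by ring

theorem pow_succ_le_sum (s : ℕ) : ∀ m : ℕ, m ^ (s + 1) ≤ (s + 1) * ∑ j ∈ range m, (j + 1) ^ s := by
  intro m
  induction m with
  | zero => simp
  | succ m ih =>
    rw [Finset.sum_range_succ, mul_add]
    exact (succ_pow_le m s).trans (add_le_add ih le_rfl)

open Classical in
/-- Exponents supported on `S` of degree below `m`. -/
noncomputable def simplex (S : Finset (Fin N)) (m : ℕ) : Finset (Fin N → ℕ) :=
  (ball N m).filter fun a => ∀ i ∉ S, a i = 0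

theorem mem_simplex {S : Finset (Fin N)} {m : ℕ} {a : Fin N → ℕ} :
    a ∈ simplex S m ↔ deg a < m ∧ ∀ i ∉ S, a i = 0 := by
  simp [simplex, mem_ball]

theorem pow_card_le_simplex (S : Finset (Fin N)) : ∀ m : ℕ, m ^ S.card ≤ S.card ! * (simplex S m).card ∨ m = 0 := by
  classical
  induction S using Finset.induction_on with
  | empty =>
    intro m
    rcases Nat.eq_zero_or_pos m with rfl | hm
    · exact Or.inr rfl
    · refine Or.inl ?_
      have h0 : (0 : Fin N → ℕ) ∈ simplex ∅ m := mem_simplex.2 ⟨by simpa [deg] using hm, fun _ _ => rfl⟩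
      simpa using Finset.card_pos.2 ⟨_, h0⟩
  | insert i S hi ih =>
    intro m
    refine Or.inl ?_
    have hinj : ((range m).sigma fun j => simplex S (m - j)).card ≤ (simplex (insert i S) m).card := by
      refine Finset.card_le_card_of_injOn (fun p => p.2 + Pi.single i p.1) (fun p hp => ?_) fun p hp q hq e => ?_
      · simp only [Finset.mem_coe, Finset.mem_sigma, Finset.mem_range, mem_simplex] at hp ⊢
        refine ⟨by rw [deg_add, deg_single]; omega, fun l hl => ?_⟩
        rw [Finset.mem_insert, not_or] at hl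
        simp [hp.2.2 l hl.2, hl.1]
      · simp only [Finset.mem_coe, Finset.mem_sigma, Finset.mem_range, mem_simplex] at hp hq
        have h1 := congrFun e i
        simp only [Pi.add_apply, hp.2.2 i hi, hq.2.2 i hi, Pi.single_eq_same, zero_add] at h1
        obtain ⟨j, b⟩ := p
        obtain ⟨j', b'⟩ := q
        subst h1
        exact Sigma.ext rfl (heq_of_eq (add_right_cancel e))
    rw [Finset.card_sigma] at hinj
    rw [Finset.card_insert_of_notMem hi, Nat.factorial_succ, mul_assoc]
    refine (pow_succ_le_sum _ m).trans (Nat.mul_le_mul_left _ ?_)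
    refine le_trans ?_ (Nat.mul_le_mul_left _ hinj)
    rw [Finset.mul_sum, ← Finset.sum_range_reflect (fun j => (j + 1) ^ S.card) m]
    refine Finset.sum_le_sum fun j hj => ?_
    rw [Finset.mem_range] at hj
    rcases ih (m - j) with h | h
    · rw [show m - 1 - j + 1 = m - j by omega]
      exact h
    · omega

end Groth.Agent.Lech46
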